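import Cfsg.Agent.H872.NB.Rule
import Cfsg.Agent.LThreeFi23.CentUu
import Cfsg.Agent.H820.ElB
import Cfsg.Agent.BabyM.AbsFinal

/-!
# S5003: the row `B` (helper872)

`p ≥ 5`: the 4-transpositions. `p = 3`: `Ω₇(3) ≤ C(x)`, `|x| = 3`, in `Fi23 ≤ B`.
-/

set_option autoImplicit false
set_option linter.unusedSectionVars false

namespace Cfsg.Agent.H872.NB.B

section Model

open Cfsg.Agent.BabyM.Model

variable {W : Type} [AddCommGroup W] [Module ℚ W] {M : BData W} {K₀ : Type} [Group K₀]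

/-- **The 4-transposition property of the model** (the argument of `S0466`). -/
theorem four_model (A : BAll M K₀) (B : BTrans M) :
    ∃ t : M.G, orderOf t = 2 ∧ ∀ g : M.G, orderOf (t * (g * t * g⁻¹)) ≤ 4 := by
  have hfin := A.finite_G
  set t : M.G := ⟨M.t₀, A.C_le_G A.t₀_C⟩ with ht
  refine ⟨t, ?_, fun k => ?_⟩
  · refine orderOf_eq_prime (Subtype.ext ?_) (fun h => A.rep.t₀_ne (congrArg Subtype.val h))
    change M.t₀ ^ 2 = 1
    rw [pow_two, A.rep.t₀_sq]
  · obtain ⟨j, h, hh, hc⟩ : (k : W ≃ₗ[ℚ] W) M.d₀ ∈ M.D := ((A.G_le k.2).2 _).2 A.d₀_mem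
    obtain ⟨l, hl, hld, hord⟩ := B.order_le j
    obtain ⟨n, hn0, hn4, hpow⟩ := hord h⁻¹ (M.C.inv_mem hh)
    have h1 := A.conj_t h l (k : W ≃ₗ[ℚ] W) (A.C_le hh) (A.G_le hl) (A.G_le k.2) (Or.inl (by rw [hld, hc]))
    refine (orderOf_le_of_pow_eq_one hn0 ?_).trans hn4
    apply Subtype.ext
    have e2 : ((t * (k * t * k⁻¹) : M.G) : W ≃ₗ[ℚ] W) =
        h * ((h⁻¹ * M.t₀ * h⁻¹⁻¹) * (l * M.t₀ * l⁻¹)) * h⁻¹ := by
      have e3 : ((t * (k * t * k⁻¹) : M.G) : W ≃ₗ[ℚ] W) =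
          M.t₀ * ((k : W ≃ₗ[ℚ] W) * M.t₀ * (k : W ≃ₗ[ℚ] W)⁻¹) := by
        push_cast
        rw [ht]
      rw [e3, ← h1]
      group
    change ((t * (k * t * k⁻¹) : M.G) : W ≃ₗ[ℚ] W) ^ n = 1
    rw [e2, conj_pow, hpow, mul_one, mul_inv_cancel]

end Model

open Cfsg Subgroup Cfsg.Agent.H7.NBp Cfsg.Agent.H718.NBIH

theorem card_B : Nat.card Spor.BabyMonster = 4154781481226426191177580544000000 := BM.KHAll.card_B

theorem finite_B : Finite Spor.BabyMonster := Nat.finite_of_card_ne_zero (by rw [card_B]; norm_num)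

theorem four : ∃ t : Spor.BabyMonster, orderOf t = 2 ∧ ∀ g : Spor.BabyMonster, orderOf (t * (g * t * g⁻¹)) ≤ 4 := by
  obtain ⟨t, h2, h4⟩ := four_model BabyM.Instance.all BabyM.Instance.tr
  refine ⟨BM.KHAll.iso.symm t, ?_, fun g => ?_⟩
  · rw [MulEquiv.orderOf_eq, h2]
  · have h := h4 (BM.KHAll.iso g)
    have e1 : BM.KHAll.iso.symm (t * (BM.KHAll.iso g * t * (BM.KHAll.iso g)⁻¹)) =
        BM.KHAll.iso.symm t * (g * BM.KHAll.iso.symm t * g⁻¹) := by
      simp only [map_mul, map_inv, MulEquiv.symm_apply_apply]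
    rw [← e1, MulEquiv.orderOf_eq]
    exact h

/-- `p ≥ 5` -/
theorem nb_ge {p : ℕ} [Fact p.Prime] (hp : 5 ≤ p) : NB p Spor.BabyMonster := by
  have := finite_B
  obtain ⟨t, h2, h4⟩ := four
  exact nb_transp h2 (by omega) h4 (by omega)

/-- `p = 3` -/
theorem nb_three {S : Type} [Group S] [Finite S] [IsSimpleGroup S] (h : Spor.IsoB S) (ih : IH 3 (Nat.card S)) :
    NB 3 S := by
  obtain ⟨e⟩ := h
  have hc : Nat.card S = 4154781481226426191177580544000000 := by rw [Nat.card_congr e.toEquiv, card_B]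
  obtain ⟨f, hf⟩ := H820.ElB.exists_hom
  let φ : Spor.Fi23 →* S := e.symm.toMonoidHom.comp f
  have hφ : Function.Injective φ := e.symm.injective.comp hf
  have h3 : Fact (Nat.Prime 3) := ⟨Nat.prime_three⟩
  have hna : ¬ IsMulCommutative S := by
    intro hcm
    let _ : CommGroup S := { (inferInstance : Group S) with mul_comm := hcm.is_comm.comm }
    have h1 := IsSimpleGroup.prime_card (α := S)
    rw [hc] at h1
    norm_num at h1
  let ψ : ↥LThreeFi23.CC ≃* ↥(LThreeFi23.CC.map φ) := LThreeFi23.CC.equivMapOfInjective φ hφ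
  have hs : IsSimpleGroup ↥(LThreeFi23.CC.map φ) := by
    have := LThreeFi23.simple_CC
    exact ψ.symm.isSimpleGroup
  have hcK : Nat.card ↥(LThreeFi23.CC.map φ) = 4585351680 := by
    rw [← Nat.card_congr ψ.toEquiv, LThreeFi23.card_CC]
  have h7 : Fact (Nat.Prime 7) := ⟨by norm_num⟩
  obtain ⟨z, hz⟩ := exists_prime_orderOf_dvd_card' (G := ↥(LThreeFi23.CC.map φ)) 7 (by rw [hcK]; norm_num)
  refine nb_of_sub hna ih (x := φ LThreeFi23.uu) (z := (z : S)) (K := LThreeFi23.CC.map φ)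
    ⟨1, by rw [pow_one, ← map_pow, LThreeFi23.uu_pow, map_one]⟩ ?_ ?_ ?_ (r := 7) (c := 9) (d := 4) (by norm_num)
    (by norm_num) ?_ z.2 ?_ ?_ ?_
  · intro h1
    have h2 := LThreeFi23.order_uu
    rw [hφ (h1.trans (map_one φ).symm), orderOf_one] at h2
    norm_num at h2
  · rintro _ ⟨c, hc, rfl⟩
    have h1 := mem_centralizer_singleton_iff.1 (LThreeFi23.CC_le hc)
    rw [mem_centralizer_singleton_iff, ← map_mul, h1, map_mul]
  · intro N hN hp
    rcases hN.eq_bot_or_eq_top with h1 | h1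
    · exact h1
    · exfalso
      rw [h1] at hp
      obtain ⟨k, hk⟩ := hp ⟨z, mem_top z⟩
      have h2 : z ^ 3 ^ k = 1 := congrArg Subtype.val hk
      have h4 := orderOf_dvd_of_pow_eq_one h2
      rw [hz] at h4
      have h5 := (Nat.Prime.dvd_of_dvd_pow (by norm_num) h4)
      norm_num at h5
  · rw [Subgroup.orderOf_coe, hz]
  · rw [hcK]; norm_num
  · rw [hc]; norm_num
  · intro j hj1 hj2
    interval_cases j <;> norm_num

end Cfsg.Agent.H872.NB.B

namespace Cfsg.Agent.H872.NB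

open Cfsg Cfsg.Agent.H7.NBp Cfsg.Agent.H718.NBIH

/-- **The row `B`.** -/
theorem nb_b {p : ℕ} [Fact p.Prime] (h2 : p ≠ 2) (S : Type) [Group S] [Finite S] [IsSimpleGroup S]
    (h : Spor.IsoB S) (ih : IH p (Nat.card S)) : NB p S := by
  by_cases h3 : p = 3
  · subst h3
    exact B.nb_three h ih
  · have hp : p.Prime := Fact.out
    have h4 := hp.two_le
    have h5 : 5 ≤ p := by
      by_contra h6
      have h7 : p = 4 := by omega
      rw [h7] at hp
      norm_num at hp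
    obtain ⟨e⟩ := h
    exact NB.iso e.symm (B.nb_ge h5)

end Cfsg.Agent.H872.NB
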