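import Cfsg.Agent.H872.NB.Rule
import Cfsg.Agent.MonsterX.HNFive
import Cfsg.Agent.MonsterX.MainPack
import Cfsg.Agent.MonsterX.InstanceFinal
import Cfsg.Agent.S1701
import Cfsg.Agent.S5535

/-!
# S5003: the row `M` (helper872)

`p ≥ 7`: the 6-transpositions. `p = 5`: an element of order `5 · 19` (`5 × HN`). `p = 3`: an element of order
`3 · 29` (`3.Fi24'`).
-/

set_option autoImplicit false

namespace Cfsg.Agent.H872.NB.M

open Cfsg Subgroup Cfsg.Agent.H7.NBp Cfsg.Agent.H718.NBIH Cfsg.Agent.H978.NB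
open Cfsg.Agent.MonsterX

theorem card_M : Nat.card Spor.Monster = 808017424794512875886459904961710757005754368000000000 :=
  Cfsg.Agent.MonsterP.Equiv.isM.2

theorem finite_M : Finite Spor.Monster := Nat.finite_of_card_ne_zero (by rw [card_M]; norm_num)

theorem six : ∃ t : Spor.Monster, orderOf t = 2 ∧ ∀ g : Spor.Monster, orderOf (t * (g * t * g⁻¹)) ≤ 6 := by
  obtain ⟨e⟩ := Cfsg.Agent.MonsterP.Equiv.equiv
  set t := MainPack.tG KDone.mGroup KDone.mRep with ht
  refine ⟨e.symm t, ?_, fun g => ?_⟩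
  · rw [MulEquiv.orderOf_eq]
    refine orderOf_eq_prime ?_ (fun h => KDone.mRep.t₀_ne (congrArg Subtype.val h))
    rw [pow_two]
    exact Subtype.ext KDone.mRep.t₀_sq
  · have h : orderOf (t * (e g * t * (e g)⁻¹)) ≤ 6 :=
      MainPack.six KDone.mGroup KDone.mRep KDone.mLat InstanceFinal.mOrbit Instance.mTrans
        InstanceFinal.mExtra.order_le (e g)
    have e1 : e.symm (t * (e g * t * (e g)⁻¹)) = e.symm t * (g * e.symm t * g⁻¹) := by
      simp only [map_mul, map_inv, MulEquiv.symm_apply_apply]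
    rw [← e1, MulEquiv.orderOf_eq]
    exact h

/-- `p ≥ 7` -/
theorem nb_ge {p : ℕ} [Fact p.Prime] (hp : 7 ≤ p) : NB p Spor.Monster := by
  have := finite_M
  obtain ⟨t, h2, h6⟩ := six
  exact nb_transp h2 (by omega) h6 (by omega)

/-- commuting elements of orders 5 and 19 -/
theorem exists_five : ∃ x z : Spor.Monster, orderOf x = 5 ∧ orderOf z = 19 ∧ z * x = x * z := by
  obtain ⟨e⟩ : Nonempty (Spor.Monster ≃* ↥Conc.G) := Cfsg.Agent.MonsterP.Equiv.equiv
  have hfin := finite_M
  obtain ⟨x, hx, K, hK, hHN⟩ := HNFive.five InstanceFinal.pack Instance.mTrans Cfsg.Agent.S1701.result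
  have h19 : Fact (Nat.Prime 19) := ⟨by norm_num⟩
  have hcK : Nat.card K = 273030912000000 := hHN.2
  have hfK : Finite K := Nat.finite_of_card_ne_zero (by rw [hcK]; norm_num)
  obtain ⟨z, hz⟩ := exists_prime_orderOf_dvd_card' (G := K) 19 (by rw [hcK]; norm_num)
  have h1 : (z : Conc.G) * x = x * z := mem_centralizer_singleton_iff.1 (hK z.2)
  refine ⟨e.symm x, e.symm (z : Conc.G), ?_, ?_, ?_⟩
  · exact (MulEquiv.orderOf_eq e.symm x).trans hx
  · exact (MulEquiv.orderOf_eq e.symm _).trans ((Subgroup.orderOf_coe z).trans hz)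
  · rw [← map_mul, h1, map_mul]

/-- commuting elements of orders 3 and 29 -/
theorem exists_three : ∃ x z : Spor.Monster, orderOf x = 3 ∧ orderOf z = 29 ∧ z * x = x * z := by
  have hfin := finite_M
  obtain ⟨X, N, hX, hN, ⟨hn, ⟨f⟩⟩, -⟩ := Cfsg.Agent.S5535.result
  have h29 : Fact (Nat.Prime 29) := ⟨by norm_num⟩
  have h3 : Fact (Nat.Prime 3) := ⟨Nat.prime_three⟩
  have hc : Nat.card ↥(_root_.commutator Cfsg.Spor.Fi24) = 1255205709190661721292800 :=
    Cfsg.Agent.R08.FiTwentyFour.card_commutator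
  have hd : 29 ∣ Nat.card N := by
    have h1 : Nat.card ↥(_root_.commutator Cfsg.Spor.Fi24) ∣ Nat.card Cfsg.Spor.Fi24 := card_subgroup_dvd_card _
    rw [hc, ← Nat.card_congr f.toEquiv] at h1
    have h2 : Nat.card (↥N ⧸ X.subgroupOf N) ∣ Nat.card N := card_quotient_dvd_card _
    exact (show 29 ∣ 1255205709190661721292800 by norm_num).trans (h1.trans h2)
  obtain ⟨z, hz⟩ := exists_prime_orderOf_dvd_card' (G := N) 29 hd
  obtain ⟨x, hx⟩ := exists_prime_orderOf_dvd_card' (G := X) 3 (by rw [hX])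
  have hxo : orderOf (x : Spor.Monster) = 3 := by rw [Subgroup.orderOf_coe, hx]
  have hzo : orderOf (z : Spor.Monster) = 29 := by rw [Subgroup.orderOf_coe, hz]
  refine ⟨x, z, hxo, hzo, ?_⟩
  have hXz : zpowers (x : Spor.Monster) = X := by
    refine eq_of_le_of_card_ge (by rw [zpowers_le]; exact x.2) ?_
    rw [Nat.card_zpowers, hxo, hX]
  have hzN : (z : Spor.Monster) ∈ normalizer (X : Set Spor.Monster) := by rw [← hN]; exact z.2
  have hm : (z : Spor.Monster) * x * (z : Spor.Monster)⁻¹ ∈ zpowers (x : Spor.Monster) := by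
    rw [hXz]
    exact (mem_normalizer_iff.1 hzN _).1 x.2
  classical
  have hfo : IsOfFinOrder (x : Spor.Monster) := isOfFinOrder_of_finite _
  obtain ⟨i, hi, hix⟩ : ∃ i < 3, (x : Spor.Monster) ^ i = (z : Spor.Monster) * x * (z : Spor.Monster)⁻¹ := by
    have h1 := hfo.mem_zpowers_iff_mem_range_orderOf.1 hm
    rw [Finset.mem_image, hxo] at h1
    obtain ⟨i, hi, h2⟩ := h1
    exact ⟨i, Finset.mem_range.1 hi, h2⟩
  generalize (z : Spor.Monster) = w at *
  generalize (x : Spor.Monster) = y at *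
  have hy3 : y ^ 3 = 1 := by rw [← hxo, pow_orderOf_eq_one]
  -- `w ^ 2` commutes with `y`
  have h2 : (w * w) * y * (w * w)⁻¹ = y := by
    have h5 : (w * w) * y * (w * w)⁻¹ = y ^ (i * i) := by
      calc (w * w) * y * (w * w)⁻¹ = w * (w * y * w⁻¹) * w⁻¹ := by group
        _ = w * y ^ i * w⁻¹ := by rw [← hix]
        _ = (w * y * w⁻¹) ^ i := by rw [conj_pow]
        _ = (y ^ i) ^ i := by rw [← hix]
        _ = y ^ (i * i) := by rw [← pow_mul]
    rw [h5]
    interval_cases i
    · exfalso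
      have h6 : w * y * w⁻¹ = 1 := by rw [← hix, pow_zero]
      rw [conj_eq_one_iff] at h6
      rw [h6, orderOf_one] at hxo
      norm_num at hxo
    · rw [one_mul, pow_one]
    · rw [show 2 * 2 = 3 + 1 from rfl, pow_succ, hy3, one_mul]
  have h4 : Commute (w * w) y := mul_inv_eq_iff_eq_mul.1 h2
  have h5 : (w * w) ^ 15 = w := by
    rw [← pow_two, ← pow_mul]
    have h6 : w ^ 29 = 1 := by rw [← hzo, pow_orderOf_eq_one]
    rw [show 2 * 15 = 29 + 1 from rfl, pow_succ, h6, one_mul]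
  have h6 := h4.pow_left 15
  rw [h5] at h6
  exact h6.eq

theorem not_comm {S : Type} [Group S] [Finite S] [IsSimpleGroup S]
    (hc : Nat.card S = 808017424794512875886459904961710757005754368000000000) : ¬ IsMulCommutative S := by
  intro hcm
  let _ : CommGroup S := { (inferInstance : Group S) with mul_comm := hcm.is_comm.comm }
  have h1 := IsSimpleGroup.prime_card (α := S)
  rw [hc] at h1
  norm_num at h1

/-- `p = 5` -/
theorem nb_five {S : Type} [Group S] [Finite S] [IsSimpleGroup S] (h : Spor.IsoM S) (ih : IH 5 (Nat.card S)) :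
    NB 5 S := by
  obtain ⟨e⟩ := h
  have h5 : Fact (Nat.Prime 5) := ⟨Nat.prime_five⟩
  have hc : Nat.card S = 808017424794512875886459904961710757005754368000000000 := by
    rw [Nat.card_congr e.toEquiv, card_M]
  obtain ⟨x, z, hx, hz, hzx⟩ := exists_five
  refine nb_of_commute (not_comm hc) ih (y := e.symm x) (z := e.symm z) (r := 19) (a := 9) ?_ (by norm_num)
    (by norm_num) ?_ ?_ ?_ ?_
  · rw [MulEquiv.orderOf_eq, hx]
  · rw [MulEquiv.orderOf_eq, hz]
  · rw [← map_mul, hzx, map_mul]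
  · intro h1
    have h2 := h1.trans (card_subgroup_dvd_card _)
    rw [hc] at h2
    norm_num at h2
  · intro j hj1 hj2
    interval_cases j <;> norm_num

/-- `p = 3` -/
theorem nb_three {S : Type} [Group S] [Finite S] [IsSimpleGroup S] (h : Spor.IsoM S) (ih : IH 3 (Nat.card S)) :
    NB 3 S := by
  obtain ⟨e⟩ := h
  have h3 : Fact (Nat.Prime 3) := ⟨Nat.prime_three⟩
  have hc : Nat.card S = 808017424794512875886459904961710757005754368000000000 := by
    rw [Nat.card_congr e.toEquiv, card_M]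
  obtain ⟨x, z, hx, hz, hzx⟩ := exists_three
  refine nb_of_commute (not_comm hc) ih (y := e.symm x) (z := e.symm z) (r := 29) (a := 20) ?_ (by norm_num)
    (by norm_num) ?_ ?_ ?_ ?_
  · rw [MulEquiv.orderOf_eq, hx]
  · rw [MulEquiv.orderOf_eq, hz]
  · rw [← map_mul, hzx, map_mul]
  · intro h1
    have h2 := h1.trans (card_subgroup_dvd_card _)
    rw [hc] at h2
    norm_num at h2
  · intro j hj1 hj2
    interval_cases j <;> norm_num

end Cfsg.Agent.H872.NB.M

namespace Cfsg.Agent.H872.NB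

open Cfsg Cfsg.Agent.H7.NBp Cfsg.Agent.H718.NBIH

/-- **The row `M`.** -/
theorem nb_m {p : ℕ} [Fact p.Prime] (h2 : p ≠ 2) (S : Type) [Group S] [Finite S] [IsSimpleGroup S]
    (h : Spor.IsoM S) (ih : IH p (Nat.card S)) : NB p S := by
  by_cases h3 : p = 3
  · subst h3
    exact M.nb_three h ih
  by_cases h5 : p = 5
  · subst h5
    exact M.nb_five h ih
  · have hp : p.Prime := Fact.out
    have h4 := hp.two_le
    have h7 : 7 ≤ p := by
      by_contra h6
      have h8 : p = 4 ∨ p = 6 := by omega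
      rcases h8 with h8 | h8 <;> rw [h8] at hp <;> norm_num at hp
    obtain ⟨e⟩ := h
    exact NB.iso e.symm (M.nb_ge h7)

end Cfsg.Agent.H872.NB
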